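import Mathlib.AlgebraicGeometry.Sites.Etale
import Mathlib.AlgebraicGeometry.Sites.Small
import Mathlib.AlgebraicGeometry.Limits
import Mathlib.AlgebraicGeometry.Morphisms.UniversallyOpen
import Mathlib.AlgebraicGeometry.Morphisms.FlatMono
import Mathlib.CategoryTheory.Sites.SheafOfTypes

/-!
# Sheaves on the small étale site: Zariski + surjections of affines
-/

open CategoryTheory Limits AlgebraicGeometry Opposite

universe w u

namespace Groth.Agent.EtSite

variable {X : Scheme.{u}}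

local notation "Jet" => Scheme.smallEtaleTopology X
local notation "Jzar" => Scheme.smallGrothendieckTopology (P := @IsOpenImmersion) (Q := @AlgebraicGeometry.Etale) X

lemma openImmersion_le_etale : (@IsOpenImmersion : MorphismProperty Scheme.{u}) ≤ @AlgebraicGeometry.Etale :=
  fun _ _ _ (_ : IsOpenImmersion _) => inferInstance

lemma mem_zar_iff (U : X.Etale) (R : Sieve U) :
    R ∈ Jzar U ↔ ∀ x : U.left, ∃ (Y : X.Etale) (f : Y ⟶ U) (y : Y.left),
      R f ∧ IsOpenImmersion f.left ∧ f.left y = x := by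
  rw [Scheme.smallGrothendieckTopology_eq_toGrothendieck_smallPretopology _ openImmersion_le_etale]
  exact Scheme.mem_toGrothendieck_smallPretopology U R

lemma mem_et_iff (U : X.Etale) (R : Sieve U) :
    R ∈ Jet U ↔ ∀ x : U.left, ∃ (Y : X.Etale) (f : Y ⟶ U) (y : Y.left), R f ∧ f.left y = x := by
  rw [Scheme.smallEtaleTopology,
    Scheme.smallGrothendieckTopology_eq_toGrothendieck_smallPretopology _ le_rfl]
  refine (Scheme.mem_toGrothendieck_smallPretopology U R).trans (forall_congr' fun x => ?_)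
  refine ⟨fun ⟨Y, f, y, h1, _, h2⟩ => ⟨Y, f, y, h1, h2⟩, fun ⟨Y, f, y, h1, h2⟩ => ?_⟩
  have : AlgebraicGeometry.Etale (f.left ≫ U.hom) := by
    rw [MorphismProperty.Over.w f]; exact Y.prop
  have : AlgebraicGeometry.Etale U.hom := U.prop
  exact ⟨Y, f, y, h1, Etale.of_comp f.left U.hom, h2⟩

lemma zar_le_et : (Jzar) ≤ Jet := fun U R hR => by
  refine (mem_et_iff U R).mpr fun x => ?_
  obtain ⟨Y, f, y, h1, _, h2⟩ := (mem_zar_iff U R).mp hR x
  exact ⟨Y, f, y, h1, h2⟩

/-- An open subscheme as an object of the small étale site. -/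
noncomputable def sub (U : X.Etale) (W : U.left.Opens) : X.Etale :=
  MorphismProperty.Over.mk ⊤ (W.ι ≫ U.hom) (by
    have : AlgebraicGeometry.Etale U.hom := U.prop
    infer_instance)

noncomputable def subHom (U : X.Etale) (W : U.left.Opens) : sub U W ⟶ U :=
  MorphismProperty.Over.homMk W.ι rfl

/-- An affine refinement of a covering of an affine object. -/
lemma exists_affine_refinement (U : X.Etale) [IsAffine U.left] (S : Sieve U) (hS : S ∈ Jet U) :
    ∃ (V : X.Etale) (g : V ⟶ U), IsAffine V.left ∧ Surjective g.left ∧ S.pullback g ∈ Jzar V := by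
  classical
  rw [mem_et_iff] at hS
  choose Y f y hf hy using hS
  choose W hW hyW _ using fun x => exists_isAffineOpen_mem_and_subset (U := (⊤ : (Y x).left.Opens))
    (x := y x) trivial
  have hopen : ∀ x, IsOpen ((f x).left '' (W x : Set (Y x).left)) := fun x => by
    have : AlgebraicGeometry.Etale ((f x).left ≫ U.hom) := by
      rw [MorphismProperty.Over.w (f x)]; exact (Y x).prop
    have : AlgebraicGeometry.Etale U.hom := U.prop
    have : AlgebraicGeometry.Etale (f x).left := Etale.of_comp (f x).left U.hom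
    exact (f x).left.isOpenMap _ (W x).isOpen
  obtain ⟨t, ht⟩ := isCompact_univ.elim_finite_subcover _ hopen
    (fun x _ => Set.mem_iUnion.mpr ⟨x, y x, hyW x, hy x⟩)
  let Z : t → X.Etale := fun k => sub (Y k.1) (W k.1)
  have : ∀ k, IsAffine (Z k).left := fun k => hW k.1
  let V : X.Etale := MorphismProperty.Over.mk ⊤ (Sigma.desc fun k => (Z k).hom)
    (IsZariskiLocalAtSource.sigmaDesc (fun k => (Z k).prop))
  have hw : Sigma.desc (fun k : t => (subHom (Y k.1) (W k.1) ≫ f k.1).left) ≫ U.hom = V.hom :=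
    Sigma.hom_ext _ _ fun k => by
      simp only [V, MorphismProperty.Over.mk_hom, Sigma.ι_desc_assoc, Sigma.ι_desc]
      exact MorphismProperty.Over.w _
  let g : V ⟶ U := MorphismProperty.Over.homMk (Sigma.desc fun k : t => (subHom (Y k.1) (W k.1) ≫ f k.1).left) hw
  let ι' : ∀ k, Z k ⟶ V := fun k =>
    MorphismProperty.Over.homMk (Sigma.ι (fun k => (Z k).left) k) (Sigma.ι_desc _ _)
  have hιg : ∀ k : t, ι' k ≫ g = subHom (Y k.1) (W k.1) ≫ f k.1 := fun k =>
    MorphismProperty.Over.Hom.ext (Sigma.ι_desc _ _)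
  refine ⟨V, g, (inferInstance : IsAffine (∐ fun k => (Z k).left)), ⟨fun u => ?_⟩, ?_⟩
  · obtain ⟨x, hx, w, hw', rfl⟩ : ∃ x ∈ t, u ∈ (f x).left '' (W x : Set (Y x).left) := by
      simpa using ht (Set.mem_univ u)
    refine ⟨(ι' ⟨x, hx⟩).left ⟨w, hw'⟩, ?_⟩
    exact congr(($(hιg ⟨x, hx⟩)).left ⟨w, hw'⟩)
  · rw [mem_zar_iff]
    intro v
    obtain ⟨k, z, rfl⟩ := (sigmaOpenCover fun k => (Z k).left).exists_eq v
    refine ⟨Z k, ι' k, z, ?_, (inferInstance : IsOpenImmersion (Sigma.ι _ k)), rfl⟩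
    rw [Sieve.pullback_apply, hιg]
    exact S.downward_closed (hf k.1) _

lemma affineOpens_mem_zar (U : X.Etale) :
    (Sieve.ofArrows _ fun W : U.left.affineOpens => subHom U W.1) ∈ Jzar U := by
  rw [mem_zar_iff]
  intro x
  obtain ⟨W, hW, hxW, -⟩ := exists_isAffineOpen_mem_and_subset (U := (⊤ : U.left.Opens)) (x := x) trivial
  exact ⟨_, subHom U W, ⟨x, hxW⟩, Sieve.ofArrows_mk _ (f := fun W : U.left.affineOpens => subHom U W.1) ⟨W, hW⟩,
    (inferInstance : IsOpenImmersion W.ι), rfl⟩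

lemma map_map (F : X.Etaleᵒᵖ ⥤ Type w) {A B C : X.Etale} (a : A ⟶ B) (b : B ⟶ C) (t : F.obj (op C)) :
    F.map a.op (F.map b.op t) = F.map (a ≫ b).op t := by
  rw [op_comp, F.map_comp]
  rfl

lemma map_one' (F : X.Etaleᵒᵖ ⥤ Type w) {A : X.Etale} (t : F.obj (op A)) :
    F.map (𝟙 A).op t = t := by
  rw [op_id, F.map_id]
  rfl

variable (F : X.Etaleᵒᵖ ⥤ Type w)
  (hzar : Presieve.IsSheaf
    (Scheme.smallGrothendieckTopology (P := @IsOpenImmersion) (Q := @AlgebraicGeometry.Etale) X) F)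
  (hff : ∀ (U V : X.Etale) [IsAffine U.left] [IsAffine V.left] (f : V ⟶ U) [Surjective f.left],
    Presieve.IsSheafFor F (Presieve.singleton f))

include hzar hff

lemma isSeparatedFor_affine (U : X.Etale) [IsAffine U.left] (S : Sieve U) (hS : S ∈ Jet U) :
    Presieve.IsSeparatedFor F (S : Presieve U) := by
  obtain ⟨V, g, _, _, hg⟩ := exists_affine_refinement U S hS
  intro x t₁ t₂ h₁ h₂
  refine (hff U V g).isSeparatedFor.ext fun Y f hf => ?_
  obtain ⟨⟩ := hf
  refine (hzar _ hg).isSeparatedFor.ext fun Z a ha => ?_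
  exact (map_map F a g t₁).trans ((h₁ _ ha).trans ((h₂ _ ha).symm.trans (map_map F a g t₂).symm))

lemma isSeparatedFor (U : X.Etale) (S : Sieve U) (hS : S ∈ Jet U) :
    Presieve.IsSeparatedFor F (S : Presieve U) := by
  intro x t₁ t₂ h₁ h₂
  refine (hzar _ (affineOpens_mem_zar U)).isSeparatedFor.ext ?_
  rintro Y _ ⟨_, a, _, ⟨W⟩, rfl⟩
  refine ((map_map F a (subHom U W.1) t₁).symm.trans ?_).trans (map_map F a (subHom U W.1) t₂)
  congr 1
  haveI : IsAffine (sub U W.1).left := W.2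
  refine (isSeparatedFor_affine F hzar hff _ _ ((Jet).pullback_stable (subHom U W.1) hS)).ext
    fun Z b hb => ?_
  exact (map_map F b _ t₁).trans ((h₁ _ hb).trans ((h₂ _ hb).symm.trans (map_map F b _ t₂).symm))

lemma isSheafFor_affine (U : X.Etale) [IsAffine U.left] (S : Sieve U) (hS : S ∈ Jet U) :
    Presieve.IsSheafFor F (S : Presieve U) := by
  obtain ⟨V, g, _, _, hg⟩ := exists_affine_refinement U S hS
  have hR : Sieve.generate (Presieve.singleton g) ∈ Jet U := by
    rw [mem_et_iff]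
    intro x
    obtain ⟨v, hv⟩ := g.left.surjective x
    exact ⟨V, g, v, ⟨_, 𝟙 _, g, ⟨⟩, Category.id_comp _⟩, hv⟩
  refine Presieve.isSheafFor_trans F (Sieve.generate (Presieve.singleton g)) S
    ((Presieve.isSheafFor_iff_generate _).mp (hff U V g))
    (fun Y f _ => isSeparatedFor F hzar hff _ _ ((Jet).pullback_stable f hR)) ?_
  rintro Y _ ⟨_, a, _, ⟨⟩, rfl⟩
  rw [Sieve.pullback_comp]
  exact hzar _ ((Jzar).pullback_stable a hg)

theorem isSheaf : Presieve.IsSheaf Jet F := by
  intro U S hS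
  rw [← Presieve.isSeparatedFor_and_exists_isAmalgamation_iff_isSheafFor]
  refine ⟨isSeparatedFor F hzar hff U S hS, fun x hx => ?_⟩
  have hloc : ∀ W : U.left.affineOpens, ∃ z : F.obj (op (sub U W.1)),
      ∀ ⦃Z : X.Etale⦄ (b : Z ⟶ sub U W.1) (hb : S (b ≫ subHom U W.1)),
        F.map b.op z = x (b ≫ subHom U W.1) hb := by
    intro W
    haveI : IsAffine (sub U W.1).left := W.2
    obtain ⟨z, hz, -⟩ := isSheafFor_affine F hzar hff (sub U W.1) _
      ((Jet).pullback_stable (subHom U W.1) hS) (fun Z b hb => x (b ≫ subHom U W.1) hb)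
      (fun Y₁ Y₂ Z g₁ g₂ f₁ f₂ h₁ h₂ e => hx g₁ g₂ h₁ h₂ (by rw [reassoc_of% e]))
    exact ⟨z, fun Z b hb => hz b hb⟩
  choose z hz using hloc
  have hgen := (Presieve.isSheafFor_iff_generate
    (Presieve.ofArrows _ fun W : U.left.affineOpens => subHom U W.1)).mpr
    (hzar _ (affineOpens_mem_zar U))
  rw [Presieve.isSheafFor_arrows_iff] at hgen
  obtain ⟨y, hy, -⟩ := hgen z (fun W W' Z a a' e => by
    refine (isSeparatedFor F hzar hff Z _ ((Jet).pullback_stable (a ≫ subHom U W.1) hS)).ext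
      fun Z' b hb => ?_
    rw [Sieve.pullback_apply] at hb
    have hb' : S ((b ≫ a) ≫ subHom U W.1) := by rwa [Category.assoc]
    have hb'' : S ((b ≫ a') ≫ subHom U W'.1) := by rw [Category.assoc, ← e]; exact hb
    refine ((map_map F b a _).trans (hz W (b ≫ a) hb')).trans
      (Eq.trans ?_ ((hz W' (b ≫ a') hb'').symm.trans (map_map F b a' _).symm))
    congr 1
    all_goals simp [e])
  refine ⟨y, fun Y g hg => ?_⟩
  refine (hzar _ ((Jzar).pullback_stable g (affineOpens_mem_zar U))).isSeparatedFor.ext ?_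
  rintro Z a ⟨_, b, _, ⟨W⟩, e⟩
  have hS' : S (b ≫ subHom U W.1) := by rw [e]; exact S.downward_closed hg a
  have h1 : F.map b.op (F.map (subHom U W.1).op y) = x (b ≫ subHom U W.1) hS' :=
    (congrArg (fun t => F.map b.op t) (hy W)).trans (hz W b hS')
  have h2 := hx (g₁ := 𝟙 Z) (g₂ := a) (f₁ := b ≫ subHom U W.1) (f₂ := g)
    hS' hg ((Category.id_comp (b ≫ subHom U W.1)).trans e)
  refine (map_map F a g y).trans ?_
  refine (congrArg (fun t : Z ⟶ U => F.map t.op y) e.symm).trans ?_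
  exact (map_map F b (subHom U W.1) y).symm.trans (h1.trans ((map_one' F _).symm.trans h2))

end Groth.Agent.EtSite
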